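import Cfsg.Agent.OddOrderLocal.OmegaCritical
import Cfsg.Agent.Lib.ElemAbGL
import Cfsg.Agent.MinSimple.Dihedral

section


/-!
# Theorem SEC, step (F): the noncentral case

A perfect group `H` of `p`-rank at most 2 (`p` odd) with a normal `p`-subgroup `N ≥ C_H(N)` such that
`H ⧸ N` is simple nonabelian of even order does not exist.

Proof: `E = Ω₁` of a critical subgroup of `N` has exponent `p` and class at most 2, so
`|E / E'| ≤ p²`; the kernel of `H` on `E / E'` is a `p`-group, so it lies in `N`; an involution `t` of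
`H` has determinant 1 on `E / E'` because `H` is perfect, and `t² = 1`, so it acts as a scalar: `t` is
central modulo `N`.
-/

set_option autoImplicit false

namespace Cfsg.Agent.Omega.Sec.Faithful

open Subgroup
open scoped commutatorElement

universe u

/-! ### Matrices -/

/-- An involution of determinant 1 in `GL(n, p)`, `n ≤ 2`, `p` odd, is central. -/
theorem central_of_sq_eq_one {p : ℕ} [hp : Fact p.Prime] (hp2 : p ≠ 2) {n : ℕ} (hn : n ≤ 2)
    (M : GL (Fin n) (ZMod p)) (h2 : M * M = 1) (hdet : Matrix.GeneralLinearGroup.det M = 1)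
    (A : GL (Fin n) (ZMod p)) : M * A = A * M := by
  have hF : (2 : ZMod p) ≠ 0 := by
    intro h
    have h3 : ((2 : ℕ) : ZMod p) = 0 := by exact_mod_cast h
    rw [ZMod.natCast_eq_zero_iff] at h3
    exact hp2 ((Nat.prime_dvd_prime_iff_eq hp.out Nat.prime_two).mp h3)
  interval_cases n
  · apply Units.ext
    exact Subsingleton.elim _ _
  · apply Units.ext
    ext i j
    fin_cases i
    fin_cases j
    simp [Matrix.mul_apply, mul_comm]
  · have hm : (M : Matrix (Fin 2) (Fin 2) (ZMod p)) * (M : Matrix (Fin 2) (Fin 2) (ZMod p)) = 1 := by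
      have := congrArg Units.val h2
      exact this
    have hd : (M : Matrix (Fin 2) (Fin 2) (ZMod p)).det = 1 := by
      have := congrArg Units.val hdet
      exact this
    set m : Matrix (Fin 2) (Fin 2) (ZMod p) := (M : Matrix (Fin 2) (Fin 2) (ZMod p)) with hmdef
    rw [Matrix.det_fin_two] at hd
    have e00 : m 0 0 * m 0 0 + m 0 1 * m 1 0 = 1 := by
      have := congrFun (congrFun hm 0) 0
      simpa [Matrix.mul_apply, Fin.sum_univ_two] using this
    have e01 : m 0 0 * m 0 1 + m 0 1 * m 1 1 = 0 := by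
      have := congrFun (congrFun hm 0) 1
      simpa [Matrix.mul_apply, Fin.sum_univ_two] using this
    have e10 : m 1 0 * m 0 0 + m 1 1 * m 1 0 = 0 := by
      have := congrFun (congrFun hm 1) 0
      simpa [Matrix.mul_apply, Fin.sum_univ_two] using this
    have hs : m 0 0 * (m 0 0 + m 1 1) = 2 := by
      linear_combination e00 + hd
    have hs0 : m 0 0 + m 1 1 ≠ 0 := by
      intro h
      rw [h, mul_zero] at hs
      exact hF hs.symm
    have h01 : m 0 1 = 0 := by
      have : m 0 1 * (m 0 0 + m 1 1) = 0 := by linear_combination e01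
      exact (mul_eq_zero.mp this).resolve_right hs0
    have h10 : m 1 0 = 0 := by
      have : m 1 0 * (m 0 0 + m 1 1) = 0 := by linear_combination e10
      exact (mul_eq_zero.mp this).resolve_right hs0
    have h00 : m 0 0 ≠ 0 := by
      intro h
      rw [h, zero_mul] at hs
      exact hF hs.symm
    have h11 : m 1 1 = m 0 0 := by
      have : m 0 0 * (m 1 1 - m 0 0) = 0 := by
        rw [h01, zero_mul, add_zero] at e00
        rw [h01, zero_mul, sub_zero] at hd
        linear_combination hd - e00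
      exact sub_eq_zero.mp ((mul_eq_zero.mp this).resolve_left h00)
    apply Units.ext
    change m * (A : Matrix (Fin 2) (Fin 2) (ZMod p)) = (A : Matrix (Fin 2) (Fin 2) (ZMod p)) * m
    ext i j
    fin_cases i <;> fin_cases j <;>
      simp [Matrix.mul_apply, Fin.sum_univ_two, h01, h10, h11, mul_comm]

/-! ### The action on `E / E'` -/

section Act

variable {H : Type u} [Group H]

/-- Conjugation on the abelianization of a normal subgroup. -/
noncomputable def act (E : Subgroup H) [E.Normal] : H →* MulAut (Abelianization E) where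
  toFun g := (MulAut.conjNormal g : MulAut E).abelianizationCongr
  map_one' := by
    rw [map_one]
    ext x
    induction x using QuotientGroup.induction_on with
    | H x => rfl
  map_mul' a b := by
    rw [map_mul]
    ext x
    induction x using QuotientGroup.induction_on with
    | H x => rfl

theorem act_of (E : Subgroup H) [E.Normal] (g : H) (x : E) :
    act E g (Abelianization.of x) = Abelianization.of (MulAut.conjNormal g x) := rfl

/-- An element of `p'`-order acting trivially on `E / E'`, `E` of class at most 2, centralises `E`. -/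
theorem fix_of_act_eq_one [Finite H] {p : ℕ} [Fact p.Prime] (E : Subgroup H) [E.Normal]
    (hE : IsPGroup p E) (hcl : ∀ x y z : E, Commute ⁅x, y⁆ z) {g : H} (hg : (orderOf g).Coprime p)
    (h : act E g = 1) (x : E) : (MulAut.conjNormal g : MulAut E) x = x := by
  set a : MulAut E := MulAut.conjNormal g with ha
  -- `x⁻¹ a(x) ∈ E'`
  have h1 : ∀ y : E, y⁻¹ * a y ∈ commutator E := by
    intro y
    have h2 : Abelianization.of (a y) = Abelianization.of y := by
      have := act_of E g y
      rw [h] at this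
      exact this.symm
    exact QuotientGroup.eq.mp h2.symm
  -- `E'` is central
  have hcen : commutator E ≤ center E := by
    rw [commutator_def, commutator_le]
    intro y _ z _
    rw [mem_center_iff]
    intro w
    exact (hcl y z w).eq.symm
  -- `a` fixes `E'`
  have h3 : ∀ z ∈ commutator E, a z = z := by
    have h4 : commutator E ≤ (a : E ≃* E).toMonoidHom.eqLocus (MonoidHom.id E) := by
      rw [commutator_def, commutator_le]
      intro y _ z _
      change a ⁅y, z⁆ = ⁅y, z⁆
      have hy := mem_center_iff.mp (hcen (h1 y))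
      have hz := mem_center_iff.mp (hcen (h1 z))
      set c := y⁻¹ * a y with hc
      set d := z⁻¹ * a z with hd
      have ey : a y = y * c := by rw [hc]; group
      have ez : a z = z * d := by rw [hd]; group
      rw [map_commutatorElement, ey, ez, commutatorElement_def, commutatorElement_def]
      have hcz : ∀ w : E, c * w = w * c := fun w => (hy w).symm
      have hdz : ∀ w : E, d * w = w * d := fun w => (hz w).symm
      have hci : ∀ w : E, c⁻¹ * w = w * c⁻¹ := fun w => by
        rw [inv_mul_eq_iff_eq_mul, ← mul_assoc, hcz w, mul_assoc, mul_inv_cancel, mul_one]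
      have hdi : ∀ w : E, d⁻¹ * w = w * d⁻¹ := fun w => by
        rw [inv_mul_eq_iff_eq_mul, ← mul_assoc, hdz w, mul_assoc, mul_inv_cancel, mul_one]
      calc y * c * (z * d) * (y * c)⁻¹ * (z * d)⁻¹
          = y * (c * (z * d * c⁻¹)) * y⁻¹ * d⁻¹ * z⁻¹ := by group
        _ = y * (z * d) * y⁻¹ * d⁻¹ * z⁻¹ := by
            rw [hcz (z * d * c⁻¹), mul_assoc (z * d), inv_mul_cancel, mul_one]
        _ = y * z * (d * (y⁻¹ * d⁻¹)) * z⁻¹ := by group
        _ = y * z * y⁻¹ * z⁻¹ := by
            rw [hdz (y⁻¹ * d⁻¹), mul_assoc y⁻¹, inv_mul_cancel, mul_one]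
    exact fun z hz => h4 hz
  refine OddOrderLocal.OmegaCritical.fix_of_fix_div hE a ?_ x (h3 _ (h1 x))
  have h5 : orderOf a ∣ orderOf g := by
    rw [ha]
    exact orderOf_map_dvd _ _
  exact Nat.Coprime.coprime_dvd_left h5 hg

end Act

/-! ### The theorem -/

theorem prankLE_subgroup {G : Type*} [Group G] {p k : ℕ} (h : PRankLE p k G) (H : Subgroup G) :
    PRankLE p k H := by
  intro A hA hp
  have hc : ∀ a ∈ A, ∀ b ∈ A, a * b = b * a := fun a ha b hb => by
    have := hA.is_comm.comm (⟨a, ha⟩ : A) ⟨b, hb⟩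
    exact congrArg Subtype.val this
  have h1 := h (A.map H.subtype) ⟨⟨by
    rintro ⟨_, x, hx, rfl⟩ ⟨_, y, hy, rfl⟩
    apply Subtype.ext
    change (x : G) * y = y * x
    rw [← Subgroup.coe_mul, ← Subgroup.coe_mul, hc x hx y hy]⟩⟩ (by
    rintro _ ⟨x, hx, rfl⟩
    change (x : G) ^ p = 1
    rw [← Subgroup.coe_pow, hp x hx, Subgroup.coe_one])
  rwa [Subgroup.card_map_of_injective H.subtype_injective] at h1

/-- A normal `p`-subgroup lies in `N` if `H ⧸ N` is simple nonabelian. -/
theorem le_of_isPGroup {H : Type u} [Group H] [Finite H] {p : ℕ} [Fact p.Prime] (N K : Subgroup H)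
    [N.Normal] [K.Normal] (hK : IsPGroup p K) (hs : IsSimpleGroup (H ⧸ N))
    (hna : ¬ IsMulCommutative (H ⧸ N)) : K ≤ N := by
  have h1 : (K.map (QuotientGroup.mk' N)).Normal :=
    Subgroup.Normal.map inferInstance _ (QuotientGroup.mk'_surjective N)
  rcases h1.eq_bot_or_eq_top with h2 | h2
  · rw [Subgroup.map_eq_bot_iff, QuotientGroup.ker_mk'] at h2
    exact h2
  · exfalso
    have h3 : IsPGroup p (⊤ : Subgroup (H ⧸ N)) := h2 ▸ hK.map _
    have h4 : IsPGroup p (H ⧸ N) := h3.of_equiv topEquiv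
    have h5 : Nontrivial (center (H ⧸ N)) := h4.center_nontrivial
    have h6 : center (H ⧸ N) = ⊤ := by
      rcases (inferInstance : (center (H ⧸ N)).Normal).eq_bot_or_eq_top with h7 | h7
      · exact absurd h7 ((nontrivial_iff_ne_bot _).mp h5)
      · exact h7
    refine hna ⟨⟨fun a b => ?_⟩⟩
    have h8 : b ∈ center (H ⧸ N) := by rw [h6]; exact mem_top b
    exact mem_center_iff.mp h8 a

/-- **(F)**: the noncentral case of Theorem SEC. -/
theorem main {H : Type u} [Group H] [Finite H] {p : ℕ} [hpf : Fact p.Prime] (hp : p ≠ 2)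
    (hr : PRankLE p 2 H) (hperf : commutator H = ⊤) (N : Subgroup H) [hNn : N.Normal]
    (hN : IsPGroup p N) (hC : centralizer (N : Set H) ≤ N) (hs : IsSimpleGroup (H ⧸ N))
    (hna : ¬ IsMulCommutative (H ⧸ N)) (hFT : ¬ Odd (Nat.card (H ⧸ N))) : False := by
  classical
  obtain ⟨E0, hE0, hexp0, hcl0, hfaith⟩ :=
    OddOrderLocal.OmegaCritical.exists_omega_critical (R := N) hp hN
  have hE0' : E0.Characteristic := hE0
  set E : Subgroup H := E0.map N.subtype with hEdef
  have hEn : E.Normal := ConjAct.normal_of_characteristic_of_normal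
  have hexp : ∀ x : E, x ^ p = 1 := by
    rintro ⟨_, y, hy, rfl⟩
    apply Subtype.ext
    have := congrArg Subtype.val (hexp0 y hy)
    exact this
  have hcl : ∀ x y z : E, Commute ⁅x, y⁆ z := by
    rintro ⟨_, x, hx, rfl⟩ ⟨_, y, hy, rfl⟩ ⟨_, z, hz, rfl⟩
    apply Subtype.ext
    have := congrArg Subtype.val (hcl0 x hx y hy z hz).eq
    exact this
  have hEp : IsPGroup p E := fun x => ⟨1, by rw [pow_one]; exact hexp x⟩
  have hcard := OddOrderLocal.OmegaCritical.card_abelianization_le hexp hcl (prankLE_subgroup hr E)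
  -- the kernel lies in `N`
  set ψ := act E with hψ
  have hKp : IsPGroup p ψ.ker := by
    rintro ⟨g, hg⟩
    obtain ⟨k, m, hm, hord⟩ : ∃ k m : ℕ, m.Coprime p ∧ orderOf g = p ^ k * m := by
      obtain ⟨k, m, hm, h⟩ := Nat.exists_eq_pow_mul_and_not_dvd (orderOf_pos g).ne' p
        hpf.out.ne_one
      exact ⟨k, m, (Nat.Coprime.symm ((Nat.Prime.coprime_iff_not_dvd hpf.out).mpr hm)), h⟩
    refine ⟨k, Subtype.ext ?_⟩
    change g ^ p ^ k = 1
    have h1 : orderOf (g ^ p ^ k) = m := by
      rw [orderOf_pow' g (pow_ne_zero _ hpf.out.ne_zero), hord,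
        Nat.gcd_eq_right (dvd_mul_right _ _), Nat.mul_div_cancel_left _ (pow_pos hpf.out.pos _)]
    have h2 : (orderOf (g ^ p ^ k)).Coprime p := by rw [h1]; exact hm
    have h3 : ψ (g ^ p ^ k) = 1 := by
      rw [map_pow, MonoidHom.mem_ker.mp hg, one_pow]
    have h4 := fix_of_act_eq_one E hEp hcl h2 h3
    have h5 : (MulAut.conjNormal (g ^ p ^ k) : MulAut N) = 1 := by
      refine hfaith _ ?_ fun x hx => ?_
      · exact Nat.Coprime.coprime_dvd_left (orderOf_map_dvd _ _) h2
      · have h6 := congrArg Subtype.val (h4 ⟨(x : H), x, hx, rfl⟩)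
        rw [MulAut.conjNormal_apply] at h6
        apply Subtype.ext
        rw [MulAut.conjNormal_apply]
        exact h6
    have h7 : g ^ p ^ k ∈ N := by
      apply hC
      rw [mem_centralizer_iff]
      intro x hx
      have h8 := congrArg (fun φ : MulAut N => ((φ ⟨x, hx⟩ : N) : H)) h5
      simp only [MulAut.conjNormal_apply, MulAut.one_apply] at h8
      exact (mul_inv_eq_iff_eq_mul.mp h8).symm
    obtain ⟨j, hj⟩ := hN ⟨_, h7⟩
    have h9 : (g ^ p ^ k) ^ p ^ j = 1 := congrArg Subtype.val hj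
    have h10 : orderOf (g ^ p ^ k) ∣ 1 := by
      have h11 : (orderOf (g ^ p ^ k)).Coprime (p ^ j) := Nat.Coprime.pow_right j h2
      rw [← h11]
      exact Nat.dvd_gcd dvd_rfl (orderOf_dvd_of_pow_eq_one h9)
    exact orderOf_eq_one_iff.mp (Nat.dvd_one.mp h10)
  have hKN : ψ.ker ≤ N := le_of_isPGroup N ψ.ker hKp hs hna
  -- `MulAut (E / E')` is a linear group of degree at most 2
  have hAexp : ∀ x : Abelianization E, x ^ p = 1 := by
    intro x
    induction x using QuotientGroup.induction_on with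
    | H x =>
      change Abelianization.of x ^ p = 1
      rw [← map_pow, hexp x, map_one]
  have hAp : IsPGroup p (Abelianization E) := fun x => ⟨1, by rw [pow_one]; exact hAexp x⟩
  obtain ⟨n, hn⟩ := IsPGroup.iff_card.mp hAp
  have hn2 : n ≤ 2 := by
    rw [hn] at hcard
    exact (Nat.pow_le_pow_iff_right hpf.out.one_lt).mp hcard
  obtain ⟨e⟩ := Lib.ElemAbGL.mulAut_equiv_GL p n hAexp hn
  let f : H →* GL (Fin n) (ZMod p) := e.toMonoidHom.comp ψ
  have hdet : ∀ g : H, Matrix.GeneralLinearGroup.det (f g) = 1 := by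
    intro g
    have h1 : commutator H ≤ (Matrix.GeneralLinearGroup.det.comp f).ker :=
      Abelianization.commutator_subset_ker _
    have h2 : g ∈ (Matrix.GeneralLinearGroup.det.comp f).ker := h1 (by rw [hperf]; exact mem_top g)
    exact MonoidHom.mem_ker.mp h2
  -- an involution
  have heven : 2 ∣ Nat.card (H ⧸ N) := by
    rw [Nat.not_odd_iff_even] at hFT
    exact hFT.two_dvd
  have hf2 : Fact (Nat.Prime 2) := ⟨Nat.prime_two⟩
  obtain ⟨u, hu⟩ := exists_prime_orderOf_dvd_card' 2 heven
  obtain ⟨s, rfl⟩ := QuotientGroup.mk_surjective u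
  have hs2 : s ^ 2 ∈ N := by
    have h1 : ((s : H ⧸ N)) ^ 2 = 1 := by rw [← hu]; exact pow_orderOf_eq_one _
    have h2 : ((s ^ 2 : H) : H ⧸ N) = 1 := h1
    exact (QuotientGroup.eq_one_iff _).mp h2
  have hNodd : Odd (Nat.card N) := by
    obtain ⟨k, hk⟩ := IsPGroup.iff_card.mp hN
    rw [hk]
    exact (hpf.out.odd_of_ne_two hp).pow
  set t : H := s ^ Nat.card N with ht
  have ht2 : t * t = 1 := by
    rw [← pow_two, ht, ← pow_mul, mul_comm, pow_mul]
    exact congrArg Subtype.val (pow_card_eq_one' (x := (⟨s ^ 2, hs2⟩ : N)))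
  have htN : t ∉ N := by
    intro h1
    have h2 : ((s : H ⧸ N)) ^ Nat.card N = 1 := by
      have : ((t : H) : H ⧸ N) = 1 := (QuotientGroup.eq_one_iff t).mpr h1
      exact this
    have h3 := orderOf_dvd_of_pow_eq_one h2
    rw [hu] at h3
    exact (Nat.not_even_iff_odd.mpr hNodd) (even_iff_two_dvd.mpr h3)
  -- `t` acts as a scalar
  have hcomm : ∀ g : H, f t * f g = f g * f t := fun g => by
    refine central_of_sq_eq_one hp hn2 (f t) ?_ (hdet t) (f g)
    rw [← map_mul, ht2, map_one]
  have hcen : ∀ g : H, ⁅t, g⁆ ∈ N := by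
    intro g
    apply hKN
    rw [MonoidHom.mem_ker]
    apply e.injective
    rw [map_one]
    have h1 : f ⁅t, g⁆ = 1 := by
      rw [map_commutatorElement, commutatorElement_eq_one_iff_mul_comm]
      exact hcomm g
    exact h1
  have hz : (t : H ⧸ N) ∈ center (H ⧸ N) := by
    rw [mem_center_iff]
    intro x
    induction x using QuotientGroup.induction_on with
    | H g =>
      have h1 : ((⁅t, g⁆ : H) : H ⧸ N) = 1 := (QuotientGroup.eq_one_iff _).mpr (hcen g)
      have h2 : ⁅(t : H ⧸ N), (g : H ⧸ N)⁆ = 1 := h1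
      exact (commutatorElement_eq_one_iff_mul_comm.mp h2).symm
  have hbot : center (H ⧸ N) = ⊥ := by
    rcases (inferInstance : (center (H ⧸ N)).Normal).eq_bot_or_eq_top with h7 | h7
    · exact h7
    · exfalso
      refine hna ⟨⟨fun a b => ?_⟩⟩
      have h8 : b ∈ center (H ⧸ N) := by rw [h7]; exact mem_top b
      exact mem_center_iff.mp h8 a
  rw [hbot, mem_bot] at hz
  exact htN ((QuotientGroup.eq_one_iff t).mp hz)

end Cfsg.Agent.Omega.Sec.Faithful

end

section


/-!
# Theorem SEC: reduction to the central case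

If the conclusion `m_p(H ⧸ N) ≤ 2` holds for every perfect `H` of `p`-rank at most 2 with a central
`p`-subgroup `N` (`H ⧸ N` simple nonabelian), it holds for every `H` of `p`-rank at most 2 and every
normal subgroup `N` with `H ⧸ N` simple nonabelian (minimal counterexample: `N` lies in the Frattini
subgroup, so `N` is a `p`-group, and `C_H(N) ≤ N` is excluded by `Faithful.main`).
-/

set_option autoImplicit false

namespace Cfsg.Agent.Omega.Sec.Reduce

open Subgroup
open scoped commutatorElement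

universe u

theorem prankLE_of_injective {G H : Type*} [Group G] [Group H] {p k : ℕ} (f : G →* H)
    (hf : Function.Injective f) (h : PRankLE p k H) : PRankLE p k G := by
  intro A hA hp
  have hc : ∀ a ∈ A, ∀ b ∈ A, a * b = b * a := fun a ha b hb => by
    have := hA.is_comm.comm (⟨a, ha⟩ : A) ⟨b, hb⟩
    exact congrArg Subtype.val this
  have h1 := h (A.map f) ⟨⟨by
    rintro ⟨_, x, hx, rfl⟩ ⟨_, y, hy, rfl⟩
    apply Subtype.ext
    change f x * f y = f y * f x
    rw [← map_mul, ← map_mul, hc x hx y hy]⟩⟩ (by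
    rintro _ ⟨x, hx, rfl⟩
    rw [← map_pow, hp x hx, map_one])
  rwa [Subgroup.card_map_of_injective hf] at h1

theorem prankLE_congr {G H : Type*} [Group G] [Group H] {p k : ℕ} (e : G ≃* H)
    (h : PRankLE p k G) : PRankLE p k H :=
  prankLE_of_injective e.symm.toMonoidHom e.symm.injective h

/-- The `p`-rank does not grow modulo a normal `p'`-subgroup. -/
theorem prankLE_quotient {H : Type*} [Group H] [Finite H] {p k : ℕ} [hpf : Fact p.Prime]
    (Q : Subgroup H) [Q.Normal] (hQ : (Nat.card Q).Coprime p) (h : PRankLE p k H) :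
    PRankLE p k (H ⧸ Q) := by
  intro A hA hp
  set B : Subgroup H := A.comap (QuotientGroup.mk' Q) with hB
  obtain ⟨P0⟩ : Nonempty (Sylow p B) := inferInstance
  set P : Subgroup H := (P0 : Subgroup B).map B.subtype with hP
  have hPp : IsPGroup p P := P0.isPGroup'.map _
  have hPB : P ≤ B := map_subtype_le _
  -- `P ∩ Q = 1`
  have hPQ : ∀ x ∈ P, x ∈ Q → x = 1 := by
    intro x hx hxQ
    obtain ⟨j, hj⟩ := hPp ⟨x, hx⟩
    have h1 : x ^ p ^ j = 1 := congrArg Subtype.val hj
    have h2 : x ^ Nat.card Q = 1 := congrArg Subtype.val (pow_card_eq_one' (x := (⟨x, hxQ⟩ : Q)))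
    have h3 : orderOf x ∣ 1 := by
      have h4 : (Nat.card Q).Coprime (p ^ j) := Nat.Coprime.pow_right j hQ
      rw [← h4]
      exact Nat.dvd_gcd (orderOf_dvd_of_pow_eq_one h2) (orderOf_dvd_of_pow_eq_one h1)
    exact orderOf_eq_one_iff.mp (Nat.dvd_one.mp h3)
  have hA' : ∀ x ∈ P, (QuotientGroup.mk' Q) x ∈ A := fun x hx => hPB hx
  have hcomm : ∀ x ∈ P, ∀ y ∈ P, x * y = y * x := by
    intro x hx y hy
    have h1 : x * y * (y * x)⁻¹ = 1 := by
      refine hPQ _ (P.mul_mem (P.mul_mem hx hy) (P.inv_mem (P.mul_mem hy hx))) ?_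
      rw [← QuotientGroup.eq_one_iff]
      have h2 := congrArg Subtype.val (hA.is_comm.comm (⟨_, hA' x hx⟩ : A) ⟨_, hA' y hy⟩)
      have h3 : (QuotientGroup.mk' Q) x * (QuotientGroup.mk' Q) y =
          (QuotientGroup.mk' Q) y * (QuotientGroup.mk' Q) x := h2
      have h4 : (QuotientGroup.mk' Q) (x * y * (y * x)⁻¹) = 1 := by
        rw [map_mul, map_inv, map_mul, map_mul, h3, mul_inv_cancel]
      exact h4
    exact mul_inv_eq_one.mp h1
  have hexp : ∀ x ∈ P, x ^ p = 1 := by
    intro x hx
    refine hPQ _ (P.pow_mem hx p) ?_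
    rw [← QuotientGroup.eq_one_iff]
    have h1 := hp _ (hA' x hx)
    rw [← map_pow] at h1
    exact h1
  have h1 : Nat.card P ≤ p ^ k := h P ⟨⟨fun x y => Subtype.ext (hcomm x x.2 y y.2)⟩⟩ hexp
  refine le_trans ?_ h1
  -- `|A|` divides `|P|`
  have hAp : IsPGroup p A := fun x => ⟨1, Subtype.ext (by rw [pow_one]; exact hp x x.2)⟩
  obtain ⟨n, hn⟩ := IsPGroup.iff_card.mp hAp
  have h2 : Nat.card A ∣ Nat.card B := by
    have h3 : (B.map (QuotientGroup.mk' Q)) = A :=
      map_comap_eq_self_of_surjective (QuotientGroup.mk'_surjective Q) A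
    have h4 : Nat.card (B.map (QuotientGroup.mk' Q)) ∣ Nat.card B := by
      let f : B →* B.map (QuotientGroup.mk' Q) := (QuotientGroup.mk' Q).subgroupMap B
      exact card_dvd_of_surjective f ((QuotientGroup.mk' Q).subgroupMap_surjective B)
    rwa [h3] at h4
  rw [hn] at h2 ⊢
  have h5 : p ^ n ∣ Nat.card (P0 : Subgroup B) := P0.pow_dvd_card_of_pow_dvd_card h2
  have h6 : Nat.card P = Nat.card (P0 : Subgroup B) := by
    rw [hP, card_map_of_injective B.subtype_injective]
  rw [h6]
  exact Nat.le_of_dvd Nat.card_pos h5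

/-- `K ≤ N` or `K N = H` for normal `K`, if `H ⧸ N` is simple. -/
theorem le_or_sup_eq_top {H : Type*} [Group H] (K N : Subgroup H) [K.Normal] [N.Normal]
    (hs : IsSimpleGroup (H ⧸ N)) : K ≤ N ∨ K ⊔ N = ⊤ := by
  have h1 : (K.map (QuotientGroup.mk' N)).Normal :=
    Subgroup.Normal.map inferInstance _ (QuotientGroup.mk'_surjective N)
  rcases h1.eq_bot_or_eq_top with h2 | h2
  · left
    rw [Subgroup.map_eq_bot_iff, QuotientGroup.ker_mk'] at h2
    exact h2
  · right
    have h3 := congrArg (Subgroup.comap (QuotientGroup.mk' N)) h2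
    rwa [comap_map_eq, QuotientGroup.ker_mk', comap_top] at h3

theorem not_isMulCommutative_congr {G H : Type*} [Group G] [Group H] (e : G ≃* H)
    (h : ¬ IsMulCommutative H) : ¬ IsMulCommutative G := by
  intro hc
  refine h ⟨⟨fun a b => e.symm.injective ?_⟩⟩
  rw [map_mul, map_mul]
  exact hc.is_comm.comm _ _

/-- **Theorem SEC from its central case** (`hFT`: the odd order theorem). -/
theorem reduce (hFT : ∀ (X : Type u) [Group X] [Finite X], Odd (Nat.card X) → Group.IsSolvable X)
    {p : ℕ} [hpf : Fact p.Prime] (hp : p ≠ 2)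
    (hcentral : ∀ (H : Type u) [Group H] [Finite H] (N : Subgroup H) [N.Normal], PRankLE p 2 H →
      commutator H = ⊤ → IsPGroup p N → N ≤ center H → IsSimpleGroup (H ⧸ N) →
      ¬ IsMulCommutative (H ⧸ N) → PRankLE p 2 (H ⧸ N)) :
    ∀ (n : ℕ) (H : Type u) [Group H] [Finite H] (N : Subgroup H) [N.Normal], Nat.card H = n →
      PRankLE p 2 H → IsSimpleGroup (H ⧸ N) → ¬ IsMulCommutative (H ⧸ N) →
      PRankLE p 2 (H ⧸ N) := by
  intro n
  induction n using Nat.strong_induction_on with
  | _ n ih =>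
    intro H _ _ N hNn hcard hr hs hna
    by_contra hcon
    -- `N` lies in the Frattini subgroup
    have hfr : ∀ K : Subgroup H, K ⊔ N = ⊤ → K = ⊤ := by
      intro K hK
      by_contra hKt
      let f : K →* H ⧸ N := (QuotientGroup.mk' N).comp K.subtype
      have hf : Function.Surjective f := by
        intro y
        obtain ⟨x, rfl⟩ := QuotientGroup.mk_surjective y
        have hx : x ∈ K ⊔ N := by rw [hK]; exact mem_top x
        rw [mem_sup_of_normal_right] at hx
        obtain ⟨a, ha, b, hb, rfl⟩ := hx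
        refine ⟨⟨a, ha⟩, ?_⟩
        change (a : H ⧸ N) = ((a * b : H) : H ⧸ N)
        rw [QuotientGroup.eq]
        have : a⁻¹ * (a * b) = b := by group
        rw [this]
        exact hb
      let e : K ⧸ f.ker ≃* H ⧸ N := QuotientGroup.quotientKerEquivOfSurjective f hf
      have h1 : Nat.card K < n := by
        rw [← hcard]
        refine lt_of_le_of_ne (Subgroup.card_le_card_group K) fun h => hKt ?_
        exact Subgroup.eq_top_of_card_eq K h
      have h2 : IsSimpleGroup (K ⧸ f.ker) := e.isSimpleGroup_congr.mpr hs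
      exact hcon (prankLE_congr e (ih _ h1 K f.ker rfl
        (prankLE_of_injective K.subtype K.subtype_injective hr) h2
        (not_isMulCommutative_congr e hna)))
    -- `H` is perfect
    have hperf : commutator H = ⊤ := by
      rcases le_or_sup_eq_top (commutator H) N hs with h1 | h1
      · exfalso
        refine hna ⟨⟨fun a b => ?_⟩⟩
        obtain ⟨x, rfl⟩ := QuotientGroup.mk_surjective a
        obtain ⟨y, rfl⟩ := QuotientGroup.mk_surjective b
        have h2 : ⁅x, y⁆ ∈ N := h1 (commutator_mem_commutator (mem_top x) (mem_top y))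
        have h3 : ⁅(x : H ⧸ N), (y : H ⧸ N)⁆ = 1 := (QuotientGroup.eq_one_iff _).mpr h2
        exact commutatorElement_eq_one_iff_mul_comm.mp h3
      · exact hfr _ h1
    -- `N` is a `p`-group
    have hNp : IsPGroup p N := by
      have key : ∀ q : ℕ, q.Prime → q ∣ Nat.card N → q = p := by
        intro q hq hdvd
        by_contra hqp
        have : Fact q.Prime := ⟨hq⟩
        obtain ⟨P⟩ : Nonempty (Sylow q N) := inferInstance
        set Q : Subgroup H := (P : Subgroup N).map N.subtype with hQ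
        have h1 : normalizer (Q : Set H) = ⊤ := hfr _ (Sylow.normalizer_sup_eq_top P)
        have hQn : Q.Normal := normalizer_eq_top_iff.mp h1
        have hQN : Q ≤ N := map_subtype_le _
        have hQc : Nat.card Q = Nat.card (P : Subgroup N) := by
          rw [hQ, card_map_of_injective N.subtype_injective]
        have hPd : q ∣ Nat.card (P : Subgroup N) := by
          have := P.pow_dvd_card_of_pow_dvd_card (n := 1) (by rwa [pow_one])
          rwa [pow_one] at this
        have hcop : (Nat.card Q).Coprime p := by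
          obtain ⟨k, hk⟩ := IsPGroup.iff_card.mp P.isPGroup'
          rw [hQc, hk]
          exact Nat.Coprime.pow_left k ((Nat.coprime_primes hq hpf.out).mpr hqp)
        have h2 := prankLE_quotient Q hcop hr
        have hN' : (N.map (QuotientGroup.mk' Q)).Normal :=
          Subgroup.Normal.map hNn _ (QuotientGroup.mk'_surjective Q)
        let e : (H ⧸ Q) ⧸ N.map (QuotientGroup.mk' Q) ≃* H ⧸ N :=
          QuotientGroup.quotientQuotientEquivQuotient Q N hQN
        have h3 : Nat.card (H ⧸ Q) < n := by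
          rw [← hcard, Subgroup.card_eq_card_quotient_mul_card_subgroup Q]
          have h4 : 1 < Nat.card Q := by
            rw [hQc]
            exact lt_of_lt_of_le hq.one_lt (Nat.le_of_dvd Nat.card_pos hPd)
          exact lt_mul_of_one_lt_right Nat.card_pos h4
        have h5 : IsSimpleGroup ((H ⧸ Q) ⧸ N.map (QuotientGroup.mk' Q)) :=
          e.isSimpleGroup_congr.mpr hs
        exact hcon (prankLE_congr e (ih _ h3 (H ⧸ Q) _ rfl h2 h5
          (not_isMulCommutative_congr e hna)))
      have h1 := Nat.eq_prime_pow_of_unique_prime_dvd (n := Nat.card N) (p := p)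
        Nat.card_pos.ne' (fun {d} hd hd2 => key d hd hd2)
      exact IsPGroup.of_card h1
    -- the centralizer of `N`
    rcases le_or_sup_eq_top (centralizer (N : Set H)) N hs with h1 | h1
    · refine Faithful.main hp hr hperf N hNp h1 hs hna fun hodd => ?_
      have h2 : Group.IsSolvable (H ⧸ N) := hFT _ hodd
      exact hna ⟨⟨IsSimpleGroup.comm_iff_isSolvable.mpr h2⟩⟩
    · have h2 := hfr _ h1
      refine hcon (hcentral H N hr hperf hNp ?_ hs hna)
      intro x hx
      rw [mem_center_iff]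
      intro g
      have h3 : g ∈ centralizer (N : Set H) := by rw [h2]; exact mem_top g
      exact (mem_centralizer_iff.mp h3 x hx).symm

end Cfsg.Agent.Omega.Sec.Reduce

end

section


/-!
# Ranks of groups with sections `S₃ × ⋯ × S₃`

* `le_of_inverted` : elements `y j` (`j : Fin n`) of order `p`, pairwise commuting, and `b j` inverting `y j` and
  centralising the others: `PRankLE p m` implies `n ≤ m`;
* `le_of_surj` : `φ : Γ →* S₃^n` surjective with kernel of odd order: `PRankLE 3 m Γ` implies `n ≤ m`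
  (Thompson's dihedral lemma);
* `le_of_range` : `φ : Γ →* M`, `H : S₃^n →* M` injective with image in the image of `φ`, and a normal 2-subgroup
  `Q ≤ ker φ` containing all 2-elements of `ker φ`: the same.
-/

set_option autoImplicit false

namespace Cfsg.Agent.Omega.SQT.RankAbs

open Subgroup Cfsg

/-- A family of `n` commuting elements of order `p`, separated by inverting elements, generates a group of
order `p ^ n`. -/
theorem le_of_inverted {G : Type*} [Group G] [Finite G] {p m n : ℕ} [hp : Fact p.Prime] (hp2 : p ≠ 2)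
    (hr : PRankLE p m G) (b y : Fin n → G) (hy : ∀ j, orderOf (y j) = p)
    (hc : ∀ i j, y i * y j = y j * y i) (hinv : ∀ j, b j * y j * (b j)⁻¹ = (y j)⁻¹)
    (hfix : ∀ i j, i ≠ j → b i * y j = y j * b i) : n ≤ m := by
  classical
  -- the homomorphism `(ZMod p)^n → G`
  have hcomm : Pairwise fun i j => ∀ (x : Multiplicative (ZMod p)) (z : Multiplicative (ZMod p)),
      Commute ((y i) ^ (Multiplicative.toAdd x).val) ((y j) ^ (Multiplicative.toAdd z).val) :=
    fun i j _ x z => (show Commute (y i) (y j) from hc i j).pow_pow _ _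
  let f : Fin n → (Multiplicative (ZMod p) →* G) := fun j =>
    { toFun := fun x => (y j) ^ (Multiplicative.toAdd x).val
      map_one' := by
        change (y j) ^ (0 : ZMod p).val = 1
        rw [ZMod.val_zero, pow_zero]
      map_mul' := by
        intro x z
        change (y j) ^ (Multiplicative.toAdd x + Multiplicative.toAdd z).val = _
        have h1 := pow_mod_orderOf (y j) ((Multiplicative.toAdd x).val + (Multiplicative.toAdd z).val)
        rw [hy j] at h1
        rw [ZMod.val_add, h1, pow_add] }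
  let F : (Fin n → Multiplicative (ZMod p)) →* G := MonoidHom.noncommPiCoprod f hcomm
  have hFs : ∀ j (x : Multiplicative (ZMod p)), F (Pi.mulSingle j x) = f j x := fun j x =>
    MonoidHom.noncommPiCoprod_mulSingle f j x
  -- conjugation by `b j`
  have hconj : ∀ j (g : Fin n → Multiplicative (ZMod p)),
      b j * F g * (b j)⁻¹ = F (Function.update g j (g j)⁻¹) := by
    intro j
    let c : (Fin n → Multiplicative (ZMod p)) →* (Fin n → Multiplicative (ZMod p)) :=
      { toFun := fun g => Function.update g j (g j)⁻¹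
        map_one' := by
          ext i
          by_cases h : i = j
          · subst h; simp
          · simp [h]
        map_mul' := by
          intro g h
          ext i
          by_cases hi : i = j
          · subst hi; simp [mul_comm]
          · simp [hi] }
    have h1 : ((MulAut.conj (b j)).toMonoidHom.comp F) = F.comp c := by
      refine MonoidHom.pi_ext fun i x => ?_
      change b j * F (Pi.mulSingle i x) * (b j)⁻¹ = F (c (Pi.mulSingle i x))
      rw [hFs]
      by_cases hij : i = j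
      · subst hij
        have h2 : c (Pi.mulSingle i x) = Pi.mulSingle i x⁻¹ := by
          change Function.update (Pi.mulSingle i x : Fin n → Multiplicative (ZMod p)) i
            ((Pi.mulSingle i x : Fin n → Multiplicative (ZMod p)) i)⁻¹ = _
          rw [Pi.mulSingle_eq_same]
          ext k
          by_cases hk : k = i
          · subst hk; simp
          · simp [hk]
        rw [h2, hFs, map_inv]
        change b i * (y i) ^ (Multiplicative.toAdd x).val * (b i)⁻¹ = ((y i) ^ (Multiplicative.toAdd x).val)⁻¹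
        rw [← conj_pow, hinv, inv_pow]
      · have h2 : c (Pi.mulSingle i x) = Pi.mulSingle i x := by
          change Function.update (Pi.mulSingle i x : Fin n → Multiplicative (ZMod p)) j
            ((Pi.mulSingle i x : Fin n → Multiplicative (ZMod p)) j)⁻¹ = _
          have h3 : (Pi.mulSingle i x : Fin n → Multiplicative (ZMod p)) j = 1 := by
            rw [Pi.mulSingle_apply, if_neg (Ne.symm hij)]
          rw [h3, inv_one]
          conv_lhs => rw [← h3]
          exact Function.update_eq_self _ _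
        rw [h2, hFs]
        change b j * (y i) ^ (Multiplicative.toAdd x).val * (b j)⁻¹ = (y i) ^ (Multiplicative.toAdd x).val
        rw [← conj_pow, hfix j i (Ne.symm hij), mul_inv_cancel_right]
    intro g
    exact DFunLike.congr_fun h1 g
  -- injectivity
  have hinj : Function.Injective F := by
    rw [injective_iff_map_eq_one]
    intro g hg
    ext j
    have h1 := hconj j g
    rw [hg, mul_one, mul_inv_cancel] at h1
    have h2 : F (g * (Function.update g j (g j)⁻¹)⁻¹) = 1 := by
      rw [map_mul, map_inv, hg, ← h1, inv_one, mul_one]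
    have h3 : g * (Function.update g j (g j)⁻¹)⁻¹ = Pi.mulSingle j (g j * g j) := by
      ext i
      by_cases hi : i = j
      · subst hi; simp
      · simp [hi]
    rw [h3, hFs] at h2
    change (y j) ^ (Multiplicative.toAdd (g j * g j)).val = 1 at h2
    have h4 := orderOf_dvd_of_pow_eq_one h2
    rw [hy j] at h4
    have h5 : (Multiplicative.toAdd (g j * g j)).val < p := ZMod.val_lt _
    have h6 : (Multiplicative.toAdd (g j * g j)).val = 0 := Nat.eq_zero_of_dvd_of_lt h4 h5
    have h7 : Multiplicative.toAdd (g j * g j) = 0 := (ZMod.val_eq_zero _).mp h6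
    have h8 : (2 : ZMod p) * Multiplicative.toAdd (g j) = 0 := by
      rw [two_mul]; exact h7
    have h9 : (2 : ZMod p) ≠ 0 := by
      intro h0
      have : (p : ℕ) ∣ 2 := by
        rw [← ZMod.natCast_eq_zero_iff]
        exact_mod_cast h0
      have := (Nat.prime_dvd_prime_iff_eq hp.out Nat.prime_two).mp this
      exact hp2 this
    rcases mul_eq_zero.mp h8 with h | h
    · exact absurd h h9
    · exact h
  have hcard : Nat.card F.range = p ^ n := by
    rw [← Nat.card_congr (MonoidHom.ofInjective hinj).toEquiv, Nat.card_pi]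
    simp
  have h1 := hr F.range ⟨⟨by
    rintro ⟨_, x, rfl⟩ ⟨_, z, rfl⟩
    apply Subtype.ext
    change F x * F z = F z * F x
    rw [← map_mul, ← map_mul, mul_comm]⟩⟩ (by
    rintro _ ⟨x, rfl⟩
    rw [← map_pow]
    have : x ^ p = 1 := by
      ext j
      change Multiplicative.toAdd ((x j) ^ p) = 0
      rw [toAdd_pow]
      simp
    rw [this, map_one])
  rw [hcard] at h1
  exact (Nat.pow_le_pow_iff_right hp.out.one_lt).mp h1

/-! ### Sections `S₃ × ⋯ × S₃` -/

theorem perm_eq_one : ∀ σ : Equiv.Perm (Fin 3), Equiv.Perm.sign σ = 1 → σ * σ = 1 → σ = 1 := by decide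

theorem perm_comm : ∀ σ τ : Equiv.Perm (Fin 3), Equiv.Perm.sign σ = 1 → Equiv.Perm.sign τ = 1 →
    σ * τ = τ * σ := by decide

theorem perm_sign : ∀ σ τ : Equiv.Perm (Fin 3), Equiv.Perm.sign σ = 1 → σ ≠ 1 → τ * σ = σ * τ →
    Equiv.Perm.sign τ = 1 := by decide

theorem exists_cyc : ∃ σ : Equiv.Perm (Fin 3), Equiv.Perm.sign σ = 1 ∧ σ ≠ 1 ∧ orderOf σ = 3 :=
  ⟨finRotate 3, by decide, by decide, orderOf_eq_prime (by decide) (by decide)⟩

/-- A group of 3-rank at most `m` has no section `S₃^n` with kernel of odd order, `n > m`. -/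
theorem le_of_surj {Γ : Type*} [Group Γ] [Finite Γ] {m n : ℕ} (hr : PRankLE 3 m Γ)
    (φ : Γ →* (Fin n → Equiv.Perm (Fin 3))) (hφ : Function.Surjective φ) (hk : Odd (Nat.card φ.ker)) :
    n ≤ m := by
  classical
  have h2 : Fact (Nat.Prime 2) := ⟨Nat.prime_two⟩
  have h3 : Fact (Nat.Prime 3) := ⟨Nat.prime_three⟩
  -- the signs
  let sg : (Fin n → Equiv.Perm (Fin 3)) →* (Fin n → ℤˣ) :=
    { toFun := fun σ j => Equiv.Perm.sign (σ j)
      map_one' := by ext j; simp
      map_mul' := by intro σ τ; ext j; simp }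
  have hsg : Function.Surjective sg := by
    intro s
    choose f hf using fun j => Equiv.Perm.sign_surjective (Fin 3) (s j)
    exact ⟨f, funext hf⟩
  set ψ : Γ →* (Fin n → ℤˣ) := sg.comp φ with hψ
  have hψs : Function.Surjective ψ := hsg.comp hφ
  set Y : Subgroup Γ := ψ.ker with hY
  have memY : ∀ g : Γ, g ∈ Y ↔ ∀ j, Equiv.Perm.sign (φ g j) = 1 := by
    intro g
    rw [hY, MonoidHom.mem_ker]
    constructor
    · intro h j
      exact congrFun h j
    · intro h
      exact funext h
  have hYi : Y.index = 2 ^ n := by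
    rw [hY, Subgroup.index_ker, MonoidHom.range_eq_top.mpr hψs, Subgroup.card_top, Nat.card_pi]
    simp
  -- `Y` has odd order
  have hYinv : ∀ y ∈ Y, y * y = 1 → y = 1 := by
    intro y hy hyy
    have h1 : φ y = 1 := by
      funext j
      refine perm_eq_one _ ((memY y).1 hy j) ?_
      have := congrFun (congrArg φ hyy) j
      rw [map_mul, map_one] at this
      exact this
    have h4 : (⟨y, MonoidHom.mem_ker.mpr h1⟩ : φ.ker) ^ 2 = 1 := by
      apply Subtype.ext
      change y ^ 2 = 1
      rw [pow_two]; exact hyy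
    have h5 := orderOf_dvd_of_pow_eq_one h4
    have h6 := orderOf_dvd_natCard (⟨y, MonoidHom.mem_ker.mpr h1⟩ : φ.ker)
    have h7 : orderOf (⟨y, MonoidHom.mem_ker.mpr h1⟩ : φ.ker) = 1 := by
      rcases (Nat.dvd_prime Nat.prime_two).mp h5 with h | h
      · exact h
      · rw [h] at h6
        exact absurd (even_iff_two_dvd.mpr h6) (Nat.not_even_iff_odd.mpr hk)
    exact congrArg Subtype.val (orderOf_eq_one_iff.mp h7)
  have hYodd : ∀ H : Subgroup Γ, H ≤ Y → Odd (Nat.card H) := by
    intro H hH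
    rw [← Nat.not_even_iff_odd]
    intro he
    obtain ⟨x, hx⟩ := exists_prime_orderOf_dvd_card' (G := H) 2 (even_iff_two_dvd.1 he)
    have h1 : (x : Γ) * x = 1 := by
      have h4 := pow_orderOf_eq_one x
      rw [hx, pow_two] at h4
      exact congrArg Subtype.val h4
    have h4 := hYinv x (hH x.2) h1
    rw [Subtype.ext (a1 := x) (a2 := 1) h4, orderOf_one] at hx
    norm_num at hx
  -- a Sylow 3-subgroup of `Y`
  obtain ⟨R0⟩ : Nonempty (Sylow 3 Y) := inferInstance
  set R : Subgroup Γ := (R0 : Subgroup Y).map Y.subtype with hR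
  have hRp : IsPGroup 3 R := R0.isPGroup'.map _
  have hRY : R ≤ Y := map_subtype_le _
  have hfr : normalizer (R : Set Γ) ⊔ Y = ⊤ := Sylow.normalizer_sup_eq_top R0
  -- `R` covers the 3-cycles
  have hcov : ∀ j, ∃ z ∈ R, Equiv.Perm.sign (φ z j) = 1 ∧ φ z j ≠ 1 := by
    intro j
    obtain ⟨c, hc1, hc2, hc3⟩ := exists_cyc
    obtain ⟨y, hy⟩ := hφ (Pi.mulSingle j c)
    have hyY : y ∈ Y := by
      rw [memY]
      intro i
      rw [hy]
      by_cases h : i = j
      · subst h; rw [Pi.mulSingle_eq_same]; exact hc1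
      · rw [Pi.mulSingle_apply, if_neg h, map_one]
    -- the 3-part of `y`
    obtain ⟨a, l, hl, hal⟩ := Nat.exists_eq_pow_mul_and_not_dvd (n := orderOf y) (orderOf_pos y).ne' 3
      (by norm_num)
    set x : Γ := y ^ l with hx
    have hx3 : x ^ 3 ^ a = 1 := by
      rw [hx, ← pow_mul, mul_comm, ← hal, pow_orderOf_eq_one]
    have hxY : x ∈ Y := Y.pow_mem hyY l
    have hxp : IsPGroup 3 (zpowers (⟨x, hxY⟩ : Y)) := by
      rw [IsPGroup.iff_card, Nat.card_zpowers]
      have h4 : orderOf (⟨x, hxY⟩ : Y) ∣ 3 ^ a := orderOf_dvd_of_pow_eq_one (Subtype.ext hx3)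
      obtain ⟨k, -, hk⟩ := (Nat.dvd_prime_pow Nat.prime_three).1 h4
      exact ⟨k, hk⟩
    obtain ⟨T, hT⟩ := hxp.exists_le_sylow
    obtain ⟨g, hg⟩ := MulAction.exists_smul_eq Y T R0
    have h5 : g * ⟨x, hxY⟩ * g⁻¹ ∈ (R0 : Subgroup Y) := by
      rw [← hg]
      exact Subgroup.smul_mem_pointwise_smul _ (MulAut.conj g) (T : Subgroup Y) (hT (mem_zpowers _))
    refine ⟨(g : Γ) * x * (g : Γ)⁻¹, ⟨_, h5, rfl⟩, ?_⟩
    have h6 : φ ((g : Γ) * x * (g : Γ)⁻¹) j = c ^ l := by
      rw [map_mul, map_mul, map_inv, hx, map_pow, hy]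
      change φ g j * ((Pi.mulSingle j c : Fin n → Equiv.Perm (Fin 3)) ^ l) j * (φ g j)⁻¹ = c ^ l
      rw [Pi.pow_apply, Pi.mulSingle_eq_same]
      have h7 : Equiv.Perm.sign (φ g j) = 1 := (memY g).1 g.2 j
      have h8 : Equiv.Perm.sign (c ^ l) = 1 := by rw [map_pow, hc1, one_pow]
      rw [perm_comm _ _ h7 h8, mul_inv_cancel_right]
    refine ⟨by rw [h6, map_pow, hc1, one_pow], ?_⟩
    rw [h6]
    intro h7
    have h8 := orderOf_dvd_of_pow_eq_one h7
    rw [hc3] at h8
    exact hl h8
  -- a Sylow 2-subgroup of `N(R)`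
  set N : Subgroup Γ := normalizer (R : Set Γ) with hN
  obtain ⟨B0⟩ : Nonempty (Sylow 2 N) := inferInstance
  set B : Subgroup Γ := (B0 : Subgroup N).map N.subtype with hB
  have hBN : B ≤ N := map_subtype_le _
  have hBp : IsPGroup 2 B := B0.isPGroup'.map _
  have hBY : ∀ b ∈ B, b ∈ Y → b = 1 := by
    intro b hb hbY
    obtain ⟨k, hk'⟩ := hBp ⟨b, hb⟩
    have hbk : b ^ 2 ^ k = 1 := congrArg Subtype.val hk'
    have h4 : orderOf b ∣ 2 ^ k := orderOf_dvd_of_pow_eq_one hbk
    have h5 : orderOf b ∣ Nat.card Y := by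
      have := orderOf_dvd_natCard (⟨b, hbY⟩ : Y)
      rwa [Subgroup.orderOf_mk] at this
    have h6 : (Nat.card Y).Coprime (2 ^ k) :=
      Nat.Coprime.pow_right k ((hYodd Y le_rfl).coprime_two_right)
    have h7 : orderOf b ∣ 1 := by rw [← h6]; exact Nat.dvd_gcd h5 h4
    exact orderOf_eq_one_iff.mp (Nat.dvd_one.mp h7)
  have hBsq : ∀ b ∈ B, b * b = 1 := by
    intro b hb
    refine hBY _ (B.mul_mem hb hb) ?_
    rw [memY]
    intro j
    rw [map_mul, Pi.mul_apply, map_mul]
    exact Int.units_mul_self _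
  have hBf : ∀ b ∈ B, (∀ r ∈ R, b * r = r * b) → b = 1 := by
    intro b hb hc
    refine hBY b hb ((memY b).2 fun j => ?_)
    obtain ⟨z, hz, hz1, hz2⟩ := hcov j
    refine perm_sign (φ z j) (φ b j) hz1 hz2 ?_
    have := congrFun (congrArg φ (hc z hz)) j
    rw [map_mul, map_mul] at this
    exact this
  -- the order of `B`
  have hBcard : Nat.card B = 2 ^ n := by
    have h5 : Y.relIndex N = 2 ^ n := by
      have h6 := relIndex_sup_right (H := N) (K := Y)
      rw [hfr, relIndex_top_right, hYi] at h6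
      exact h6.symm
    have h4 : Nat.card N = 2 ^ n * Nat.card (Y.subgroupOf N) := by
      have h6 := (Y.subgroupOf N).card_mul_index
      rw [← h6, mul_comm]
      congr 1
    have h6 : Odd (Nat.card (Y.subgroupOf N)) := by
      have h7 : Nat.card (Y.subgroupOf N) = Nat.card ↥(Y ⊓ N) := by
        rw [← Subgroup.card_map_of_injective (Subgroup.subtype_injective N)]
        rw [Subgroup.subgroupOf_map_subtype]
      rw [h7]
      exact hYodd _ inf_le_left
    have h7 : Nat.card B = Nat.card (B0 : Subgroup N) := by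
      rw [hB]
      exact Subgroup.card_map_of_injective (Subgroup.subtype_injective N)
    rw [h7, B0.card_eq_multiplicity, h4]
    congr 1
    have h8 : ¬ 2 ∣ Nat.card (Y.subgroupOf N) := fun h => (Nat.not_even_iff_odd.mpr h6) (even_iff_two_dvd.mpr h)
    rw [Nat.factorization_mul (by positivity) (Nat.card_pos).ne', Finsupp.add_apply,
      Nat.Prime.factorization_pow Nat.prime_two, Finsupp.single_eq_same,
      Nat.factorization_eq_zero_of_not_dvd h8, add_zero]
  obtain ⟨n', b, y, hcard, -, -, hyR, hpr, hinv, hfix, hcomm, -⟩ :=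
    MinSimple.Dihedral.exists_dihedral B R hBsq hRp.isNilpotent (hYodd R hRY) hBN hBf
  have hn : n = n' := by
    rw [hBcard] at hcard
    exact Nat.pow_right_injective le_rfl hcard
  rw [hn]
  refine le_of_inverted (p := 3) (by norm_num) hr b y (fun j => ?_) hcomm hinv hfix
  have h4 := hpr j
  obtain ⟨k, hk'⟩ := hRp ⟨y j, hyR j⟩
  have h5 : orderOf (y j) ∣ 3 ^ k := orderOf_dvd_of_pow_eq_one (congrArg Subtype.val hk')
  exact (Nat.prime_dvd_prime_iff_eq h4 Nat.prime_three).mp (h4.dvd_of_dvd_pow h5)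

/-- The same for a homomorphism `φ : Γ →* M` whose image contains `S₃^n`; the 2-elements of the kernel are in
a normal 2-subgroup `Q ≤ ker φ`. -/
theorem le_of_range {Γ M : Type*} [Group Γ] [Finite Γ] [Group M] {m n : ℕ} (hr : PRankLE 3 m Γ)
    (φ : Γ →* M) (H : (Fin n → Equiv.Perm (Fin 3)) →* M) (hH : Function.Injective H)
    (hHφ : H.range ≤ φ.range) (Q : Subgroup Γ) [hQn : Q.Normal] (hQ : IsPGroup 2 Q) (hQk : Q ≤ φ.ker)
    (hk : ∀ x ∈ φ.ker, (∃ k, x ^ 2 ^ k = 1) → x ∈ Q) : n ≤ m := by
  classical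
  have h2 : Fact (Nat.Prime 2) := ⟨Nat.prime_two⟩
  have h3 : Fact (Nat.Prime 3) := ⟨Nat.prime_three⟩
  have hQ3 : (Nat.card Q).Coprime 3 := by
    obtain ⟨k, hk'⟩ := IsPGroup.iff_card.mp hQ
    rw [hk']
    exact Nat.Coprime.pow_left k (by norm_num)
  -- the preimage of the image of `H`
  set X : Subgroup Γ := H.range.comap φ with hX
  let e : (Fin n → Equiv.Perm (Fin 3)) ≃* H.range := MonoidHom.ofInjective hH
  let φ₁ : X →* H.range := (φ.comp X.subtype).codRestrict H.range fun x => x.2
  let φ₂ : X →* (Fin n → Equiv.Perm (Fin 3)) := e.symm.toMonoidHom.comp φ₁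
  have hker : ∀ x : X, x ∈ φ₂.ker ↔ φ (x : Γ) = 1 := by
    intro x
    rw [MonoidHom.mem_ker]
    change e.symm (φ₁ x) = 1 ↔ _
    rw [map_eq_one_iff e.symm e.symm.injective, Subtype.ext_iff]
    rfl
  have hsur : Function.Surjective φ₂ := by
    intro σ
    obtain ⟨g, hg⟩ := hHφ ⟨σ, rfl⟩
    refine ⟨⟨g, by rw [hX, mem_comap, hg]; exact ⟨σ, rfl⟩⟩, ?_⟩
    change e.symm (φ₁ _) = σ
    rw [MulEquiv.symm_apply_eq]
    apply Subtype.ext
    exact hg
  have hQX : Q ≤ X := fun x hx => by
    rw [hX, mem_comap, MonoidHom.mem_ker.mp (hQk hx)]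
    exact one_mem _
  set Q₁ : Subgroup X := Q.subgroupOf X with hQ₁
  have hQ₁n : Q₁.Normal := hQn.subgroupOf X
  have hQ₁k : Q₁ ≤ φ₂.ker := fun x hx => (hker x).2 (MonoidHom.mem_ker.mp (hQk (mem_subgroupOf.mp hx)))
  have hQ₁3 : (Nat.card Q₁).Coprime 3 := by
    have h4 : Nat.card Q₁ = Nat.card Q := Nat.card_congr (Subgroup.subgroupOfEquivOfLe hQX).toEquiv
    rw [h4]
    exact hQ3
  have hr₁ : PRankLE 3 m (X ⧸ Q₁) :=
    Sec.Reduce.prankLE_quotient Q₁ hQ₁3 (Sec.Reduce.prankLE_of_injective X.subtype X.subtype_injective hr)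
  let φ₃ : X ⧸ Q₁ →* (Fin n → Equiv.Perm (Fin 3)) := QuotientGroup.lift Q₁ φ₂ hQ₁k
  have hsur₃ : Function.Surjective φ₃ := by
    intro σ
    obtain ⟨x, hx⟩ := hsur σ
    exact ⟨QuotientGroup.mk x, hx⟩
  refine le_of_surj hr₁ φ₃ hsur₃ ?_
  -- the kernel has odd order
  rw [← Nat.not_even_iff_odd]
  intro he
  obtain ⟨x, hx⟩ := exists_prime_orderOf_dvd_card' (G := φ₃.ker) 2 (even_iff_two_dvd.1 he)
  obtain ⟨y, hy⟩ := QuotientGroup.mk_surjective (x : X ⧸ Q₁)
  have h4 : (x : X ⧸ Q₁) ^ 2 = 1 := by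
    have := pow_orderOf_eq_one x
    rw [hx] at this
    exact congrArg Subtype.val this
  have h5 : (x : X ⧸ Q₁) ≠ 1 := by
    intro h
    rw [Subtype.ext (a1 := x) (a2 := 1) h, orderOf_one] at hx
    norm_num at hx
  apply h5
  rw [← hy]
  rw [QuotientGroup.eq_one_iff]
  have h6 : y ^ 2 ∈ Q₁ := by
    rw [← QuotientGroup.eq_one_iff, QuotientGroup.mk_pow, hy]
    exact h4
  have h7 : φ (y : Γ) = 1 := by
    rw [← hker]
    have h8 := x.2
    rw [← hy] at h8
    exact h8
  refine mem_subgroupOf.mpr (hk (y : Γ) h7 ?_)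
  obtain ⟨k, hk'⟩ := hQ ⟨((y ^ 2 : X) : Γ), mem_subgroupOf.mp h6⟩
  refine ⟨k + 1, ?_⟩
  have h8 : ((y : Γ) ^ 2) ^ 2 ^ k = 1 := congrArg Subtype.val hk'
  rw [← pow_mul] at h8
  rw [pow_succ, mul_comm]
  exact h8

end Cfsg.Agent.Omega.SQT.RankAbs

end

section


/-!
# Sections `S₃ × ⋯ × S₃` and the 3-rank

helper304.  `le_of_surjective`: a finite group of 3-rank at most `m` with a quotient `S₃^n` has `n ≤ m` (no
condition on the kernel).  `rank_of_triples`: the same for a group permuting `n` triples of elements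
independently.
-/

set_option autoImplicit false

namespace Cfsg.Agent.Omega.IId.RankPlanes

open Subgroup Cfsg

/-- A finite group of 3-rank at most `m` with a quotient `S₃^n` has `n ≤ m`. -/
theorem le_of_surjective {Γ : Type*} [Group Γ] [Finite Γ] {m n : ℕ} (hr : PRankLE 3 m Γ)
    (φ : Γ →* (Fin n → Equiv.Perm (Fin 3))) (hφ : Function.Surjective φ) : n ≤ m := by
  classical
  have h2 : Fact (Nat.Prime 2) := ⟨Nat.prime_two⟩
  -- a Sylow 2-subgroup of the kernel and its normaliser
  let P : Sylow 2 φ.ker := default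
  set R : Subgroup Γ := (P : Subgroup φ.ker).map φ.ker.subtype with hR
  have hF : normalizer (R : Set Γ) ⊔ φ.ker = ⊤ := Sylow.normalizer_sup_eq_top P
  have hRk : R ≤ φ.ker := by
    rintro _ ⟨x, _, rfl⟩
    exact x.2
  have hRp : IsPGroup 2 R := P.isPGroup'.map _
  set Δ : Subgroup Γ := normalizer (R : Set Γ) with hΔ
  have hRΔ : R ≤ Δ := le_normalizer
  have hN : (R.subgroupOf Δ).Normal := normal_subgroupOf_of_le_normalizer le_rfl
  refine SQT.RankAbs.le_of_range (Γ := Δ) (M := Fin n → Equiv.Perm (Fin 3))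
    (Sec.Reduce.prankLE_of_injective Δ.subtype Δ.subtype_injective hr) (φ.comp Δ.subtype) (MonoidHom.id _) Function.injective_id ?_
    (R.subgroupOf Δ) (hRp.of_equiv (subgroupOfEquivOfLe hRΔ).symm) ?_ ?_
  · rintro σ -
    obtain ⟨g, rfl⟩ := hφ σ
    have hg : g ∈ Δ ⊔ φ.ker := by rw [hF]; trivial
    have hkn : φ.ker.Normal := MonoidHom.normal_ker φ
    obtain ⟨d, hd, k, hk, rfl⟩ := mem_sup_of_normal_right.1 hg
    refine ⟨⟨d, hd⟩, ?_⟩
    rw [map_mul, MonoidHom.mem_ker.1 hk, mul_one]
    rfl
  · intro x hx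
    exact MonoidHom.mem_ker.2 (MonoidHom.mem_ker.1 (hRk (mem_subgroupOf.1 hx)))
  · rintro ⟨x, hx⟩ hxk ⟨k, hk⟩
    rw [mem_subgroupOf]
    have hxk' : x ∈ φ.ker := hxk
    have hk' : x ^ 2 ^ k = 1 := congrArg Subtype.val hk
    -- `⟨x⟩` is a 2-subgroup of the kernel normalising `P`
    have h3 : (⟨x, hxk'⟩ : φ.ker) ∈ normalizer ((P : Subgroup φ.ker) : Set φ.ker) := by
      rw [mem_normalizer_iff]
      intro y
      have h4 := mem_normalizer_iff.1 hx (y : Γ)
      have e : ∀ z : φ.ker, z ∈ (P : Subgroup φ.ker) ↔ (z : Γ) ∈ R := by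
        intro z
        constructor
        · intro hz; exact ⟨z, hz, rfl⟩
        · rintro ⟨z', hz', e⟩
          rwa [← Subtype.ext (a1 := z') (a2 := z) e]
      rw [e, e]
      exact h4
    have h5 : IsPGroup 2 (zpowers (⟨x, hxk'⟩ : φ.ker)) := by
      rintro ⟨z, n, rfl⟩
      refine ⟨k, Subtype.ext ?_⟩
      rw [SubmonoidClass.coe_pow, Subgroup.coe_one]
      show ((⟨x, hxk'⟩ : φ.ker) ^ n) ^ 2 ^ k = 1
      rw [← zpow_natCast, ← zpow_mul, mul_comm, zpow_mul, zpow_natCast]
      have h4 : (⟨x, hxk'⟩ : φ.ker) ^ 2 ^ k = 1 := Subtype.ext hk'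
      rw [h4, one_zpow]
    have h6 : zpowers (⟨x, hxk'⟩ : φ.ker) ≤ (P : Subgroup φ.ker) := by
      have h7 : IsPGroup 2 (zpowers (⟨x, hxk'⟩ : φ.ker) ⊔ (P : Subgroup φ.ker) : Subgroup φ.ker) :=
        h5.to_sup_of_normal_right' P.isPGroup' (by rwa [zpowers_le])
      have h8 := P.3 h7 le_sup_right
      rw [← h8]
      exact le_sup_left
    exact ⟨⟨x, hxk'⟩, h6 (mem_zpowers _), rfl⟩

/-- A group permuting `n` triples independently (all transpositions of every triple) has 3-rank at least `n`. -/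
theorem rank_of_triples {G : Type*} [Group G] [Finite G] {m n : ℕ} (w : Fin n → Fin 3 → G)
    (hw : ∀ i, Function.Injective (w i))
    (ht : ∀ i j k, j ≠ k → ∃ g : G, (∀ l, g * w i l * g⁻¹ = w i (Equiv.swap j k l)) ∧
      ∀ i', i' ≠ i → ∀ l, g * w i' l * g⁻¹ = w i' l) (hr : PRankLE 3 m G) : n ≤ m := by
  classical
  let Γ : Subgroup G :=
    { carrier := {g | ∃ σ : Fin n → Equiv.Perm (Fin 3), ∀ i l, g * w i l * g⁻¹ = w i (σ i l)}
      one_mem' := ⟨1, fun i l => by simp⟩
      mul_mem' := by
        rintro a b ⟨σ, hσ⟩ ⟨τ, hτ⟩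
        refine ⟨σ * τ, fun i l => ?_⟩
        have e : a * b * w i l * (a * b)⁻¹ = a * (b * w i l * b⁻¹) * a⁻¹ := by group
        rw [e, hτ, hσ]
        rfl
      inv_mem' := by
        rintro a ⟨σ, hσ⟩
        refine ⟨σ⁻¹, fun i l => ?_⟩
        have h1 := hσ i ((σ i)⁻¹ l)
        have h2 : σ i ((σ i)⁻¹ l) = l := (σ i).apply_symm_apply l
        rw [h2] at h1
        rw [← h1]
        show a⁻¹ * (a * w i ((σ i)⁻¹ l) * a⁻¹) * a⁻¹⁻¹ = w i ((σ i)⁻¹ l)
        group }
  have hval : ∀ g : Γ, ∃ σ : Fin n → Equiv.Perm (Fin 3), ∀ i l, (g : G) * w i l * (g : G)⁻¹ = w i (σ i l) :=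
    fun g => g.2
  choose f hf using hval
  have huniq : ∀ (g : Γ) (σ : Fin n → Equiv.Perm (Fin 3)),
      (∀ i l, (g : G) * w i l * (g : G)⁻¹ = w i (σ i l)) → f g = σ := by
    intro g σ hσ
    funext i
    ext l
    have h1 := (hf g i l).symm.trans (hσ i l)
    rw [hw i h1]
  let φ : Γ →* (Fin n → Equiv.Perm (Fin 3)) :=
    { toFun := f
      map_one' := huniq 1 1 fun i l => by simp
      map_mul' := by
        intro a b
        apply huniq
        intro i l
        have e : ((a * b : Γ) : G) * w i l * ((a * b : Γ) : G)⁻¹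
            = (a : G) * ((b : G) * w i l * (b : G)⁻¹) * (a : G)⁻¹ := by
          rw [Subgroup.coe_mul]; group
        rw [e, hf, hf]
        rfl }
  refine le_of_surjective (Γ := Γ) (Sec.Reduce.prankLE_of_injective Γ.subtype Γ.subtype_injective hr) φ ?_
  intro σ
  have hrange : σ ∈ φ.range := by
    apply Subgroup.pi_mem_of_mulSingle_mem
    intro i
    have h1 : (φ.range.comap (MonoidHom.mulSingle (fun _ : Fin n => Equiv.Perm (Fin 3)) i)) = ⊤ := by
      rw [eq_top_iff, ← Equiv.Perm.closure_isSwap, closure_le]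
      rintro _ ⟨j, k, hjk, rfl⟩
      obtain ⟨g, hg1, hg2⟩ := ht i j k hjk
      have hgΓ : ∀ i' l, g * w i' l * g⁻¹ =
          w i' ((Pi.mulSingle i (Equiv.swap j k) : Fin n → Equiv.Perm (Fin 3)) i' l) := by
        intro i' l
        by_cases h : i' = i
        · subst h
          rw [Pi.mulSingle_eq_same]
          exact hg1 l
        · rw [Pi.mulSingle_eq_of_ne h]
          exact hg2 i' h l
      exact ⟨⟨g, ⟨_, hgΓ⟩⟩, huniq _ _ hgΓ⟩
    have h2 : σ i ∈ φ.range.comap (MonoidHom.mulSingle (fun _ : Fin n => Equiv.Perm (Fin 3)) i) := by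
      rw [h1]; trivial
    exact h2
  exact hrange

end Cfsg.Agent.Omega.IId.RankPlanes

end
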